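import Groth.Agent.Lib.InertiaLoc16.AutLift
import Groth.Agent.Lib.StAlg16.GoodSquares
import Groth.Agent.Lib.StAlg16.Topology
import Groth.Agent.Lib.StAlg16.LocPInst
import Groth.Agent.Lib.QDM14.Basic
import Groth.Agent.Lib.FiniteMor15.Basic
import Groth.Agent.Lib.IsoNat5.ProperInertia
import Groth.Agent.Lib.AlgSpDescent.Instances
import Groth.Agent.Lib.StAlg16.DiagIff
import Groth.Agent.Lib.StAlg16.QSBase

/-!
# Properness of the inertia is local for etale covers surjective on automorphism groups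
-/

universe u

open CategoryTheory CategoryTheory.Functor CategoryTheory.Limits AlgebraicGeometry Opposite

set_option linter.style.haveILetI false
set_option linter.unusedSectionVars false
set_option backward.isDefEq.respectTransparency false
set_option backward.isDefEq.respectTransparency.types false

namespace Groth.Agent.InertiaLoc16

open Groth.Agent.FC16 hiding overMap
open Groth.Agent.StAlg Groth.Agent.StAlg16 AlgSt

variable {S : Scheme.{u}} {𝒰 𝒳 : AlgSt.Cat S}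

theorem map_p_eq_id {o : 𝒰.obj} (α : o ⟶ o) (T : Over S) [h : 𝒰.p.IsHomLift (𝟙 T) α] : 𝒰.p.map α = 𝟙 _ := by
  rw [IsHomLift.fac' 𝒰.p (𝟙 T) α]
  simp

theorem p_map_map_eq_id (h : 𝒰 ⥤ᵇ 𝒳) {o : 𝒰.obj} (α : o ⟶ o) (hα : 𝒰.p.map α = 𝟙 _) :
    𝒳.p.map (h.map α) = 𝟙 _ := by
  have h2 := Functor.congr_hom h.w α
  simp only [Functor.comp_map] at h2
  refine h2.trans ?_
  rw [hα]
  simp

/-- the functor on inertia -/
noncomputable def inertiaMap (h : 𝒰 ⥤ᵇ 𝒳) :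
    FibCat.inertia (FibCat.toSelf 𝒰) ⥤ᵇ FibCat.inertia (FibCat.toSelf 𝒳) where
  toFunctor :=
    { obj := fun z => ⟨h.obj z.pt, h.toFunctor.mapIso z.aut, p_map_map_eq_id h z.aut.hom z.map_aut⟩
      map := fun φ => ⟨h.map φ.hom, by
        show h.map _ ≫ h.map _ = h.map _ ≫ h.map _
        rw [← Functor.map_comp, φ.comm, Functor.map_comp]⟩
      map_id := fun z => FibCat.InertiaObj.hom_ext (h.toFunctor.map_id z.pt)
      map_comp := fun φ ψ => FibCat.InertiaObj.hom_ext (h.toFunctor.map_comp φ.hom ψ.hom) }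
  w := by
    show _ = FibCat.InertiaObj.forget ⋙ 𝒰.p
    rw [← h.w]
    rfl

/-- base change of inertia along `h` -/
noncomputable def compare (h : 𝒰 ⥤ᵇ 𝒳) {T : Over S} (w : FibCat.overCat T ⥤ᵇ 𝒰) :
    FibCat.fp w (FibCat.inertiaToBase (FibCat.toSelf 𝒰)) ⥤ᵇ
      FibCat.fp (BasedFunctor.comp w h) (FibCat.inertiaToBase (FibCat.toSelf 𝒳)) :=
  FibCat.fpLift (FibCat.fpFst w _) (BasedFunctor.comp (FibCat.fpSnd w _) (inertiaMap h))
    (wrIso (FibCat.fpIso w (FibCat.inertiaToBase (FibCat.toSelf 𝒰))) h)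

theorem compare_isEquivOver (gU : FibCat.IsFibGrpd 𝒰.p) (gX : FibCat.IsFibGrpd 𝒳.p) {h : 𝒰 ⥤ᵇ 𝒳}
    (het : AlgSt.RepByAlgSpWith AlgSp.IsEtaleMor h) (hs : GeomAutSurj h) {T : Over S}
    (w : FibCat.overCat T ⥤ᵇ 𝒰) : FibCat.IsEquivOver (compare h w) := by
  haveI : h.toFunctor.Faithful := faithful_of_rep1 gU gX (repByAlgSp1_of_with het)
  let E := compare h w
  change FibCat.IsEquivOver E
  haveI : E.toFunctor.Faithful := ⟨fun {a b φ ψ} e => fp_hom_ext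
    (congrArg (fun t => t.hom.fst) e :)
    (FibCat.InertiaObj.hom_ext (h.toFunctor.map_injective (congrArg (fun t => t.hom.snd.hom) e :)))⟩
  haveI : E.toFunctor.Full := ⟨fun {a b} φ => by
    let g₀ : a.obj.snd.pt ⟶ b.obj.snd.pt := a.obj.iso.inv ≫ w.map φ.hom.fst ≫ b.obj.iso.hom
    have e : h.map g₀ = φ.hom.snd.hom := by
      have w1 : h.map (w.map φ.hom.fst) ≫ h.map b.obj.iso.hom = h.map a.obj.iso.hom ≫ φ.hom.snd.hom := fp_w φ
      show h.map (a.obj.iso.inv ≫ w.map φ.hom.fst ≫ b.obj.iso.hom) = _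
      rw [Functor.map_comp, Functor.map_comp, w1, ← Category.assoc, ← Functor.map_comp,
        a.obj.iso.inv_hom_id, CategoryTheory.Functor.map_id]
      exact Category.id_comp _
    have c : a.obj.snd.aut.hom ≫ g₀ = g₀ ≫ b.obj.snd.aut.hom := h.toFunctor.map_injective (by
      refine (h.toFunctor.map_comp _ _).trans (Eq.trans ?_ (h.toFunctor.map_comp _ _).symm)
      rw [e]
      exact φ.hom.snd.comm)
    refine ⟨fpHom φ.hom.fst ⟨g₀, c⟩ ?_, fp_hom_ext rfl (FibCat.InertiaObj.hom_ext e)⟩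
    show w.map φ.hom.fst ≫ b.obj.iso.hom = a.obj.iso.hom ≫ g₀
    simp [g₀]⟩
  refine isEquivOver_of _ fun η => ?_
  let W := (FibCat.overCat T).p.obj η.obj.fst
  have hv : 𝒰.p.obj (w.obj η.obj.fst) = W := w.w_obj _
  haveI hθ := iso_lift η (U := W) rfl
  let θ : h.obj (w.obj η.obj.fst) ≅ η.obj.snd.pt := η.obj.iso
  haveI : 𝒳.p.IsHomLift (𝟙 W) θ.hom := hθ
  haveI : 𝒳.p.IsHomLift (𝟙 W) θ.inv := IsHomLift.lift_id_inv 𝒳.p W θ
  haveI : 𝒳.p.IsHomLift (𝟙 W) η.obj.snd.aut.hom :=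
    aut_lift η.obj.snd (IsHomLift.codomain_eq 𝒳.p (𝟙 W) θ.hom)
  obtain ⟨α, hα, hm⟩ := exists_aut_lift gU gX het hs (T := W) hv (θ ≪≫ η.obj.snd.aut ≪≫ θ.symm)
    (by show 𝒳.p.IsHomLift (𝟙 W) (θ.hom ≫ η.obj.snd.aut.hom ≫ θ.inv); infer_instance)
  haveI := hα
  let z : (FibCat.inertia (FibCat.toSelf 𝒰)).obj := ⟨w.obj η.obj.fst, α, map_p_eq_id α.hom W⟩
  let o : (FibCat.fp w (FibCat.inertiaToBase (FibCat.toSelf 𝒰))).obj :=
    fpObj η.obj.fst z (Iso.refl _) (U := W) rfl (IsHomLift.id hv)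
  have hc : h.map α.hom ≫ θ.hom = θ.hom ≫ η.obj.snd.aut.hom := by
    rw [hm]
    simp
  let j : (E.obj o).obj.snd ≅ η.obj.snd :=
    { hom := ⟨θ.hom, hc⟩
      inv := ⟨θ.inv, by
        show η.obj.snd.aut.hom ≫ θ.inv = θ.inv ≫ h.map α.hom
        rw [Iso.eq_inv_comp, ← Category.assoc, ← hc]
        simp⟩
      hom_inv_id := FibCat.InertiaObj.hom_ext θ.hom_inv_id
      inv_hom_id := FibCat.InertiaObj.hom_ext θ.inv_hom_id }
  exact ⟨o, fpIsoMk (Iso.refl _) j (by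
      show h.map (w.map (𝟙 _)) ≫ θ.hom = h.map (𝟙 _) ≫ θ.hom
      rw [CategoryTheory.Functor.map_id]),
    @isHomLift_of_fst _ _ _ _ _ _ _ _ _ _ _ _ _ (IsHomLift.id rfl)⟩

/-- proper inertia pushes forward along etale morphisms surjective on geometric automorphism groups -/
theorem repOf_proper_of_factor (gU : FibCat.IsFibGrpd 𝒰.p) (gX : FibCat.IsFibGrpd 𝒳.p) {h : 𝒰 ⥤ᵇ 𝒳}
    (het : AlgSt.RepByAlgSpWith AlgSp.IsEtaleMor h) (hs : GeomAutSurj h) (hsep : AlgSt.IsSeparatedOver 𝒰)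
    {T : Over S} (w : FibCat.overCat T ⥤ᵇ 𝒰) :
    RepOf AlgSp.IsProperMor (FibCat.fpFst (BasedFunctor.comp w h) (FibCat.inertiaToBase (FibCat.toSelf 𝒳))) :=
  repOf_of_equiv (E := compare h w) (compare_isEquivOver gU gX het hs w) (Iso.refl _)
    (with_inertiaToBase gU selfOver_isFibGrpd hsep T w)

theorem finite_inertia_of_local (h𝒳 : AlgSt.IsAlgStack Scheme.fppfPrecoverage 𝒳)
    (hΔ : AlgSt.RepByAlgSpWith (AlgSp.IsSeparatedMor ⊓ AlgSp.IsQuasiCompactMor) (FibCat.diag (FibCat.toSelf 𝒳)))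
    (hqf : AlgSt.IsQuasiDMOver 𝒳)
    (hloc : ∀ x : AlgSt.Points 𝒳, ∃ (𝒰 : AlgSt.Cat S) (h : 𝒰 ⥤ᵇ 𝒳),
      AlgSt.IsAlgStack Scheme.fppfPrecoverage 𝒰 ∧ x ∈ Set.range (AlgSt.Points.map h) ∧
      AlgSt.RepByAlgSpWith AlgSp.IsEtaleMor h ∧ AlgSt.IsSeparatedOver 𝒰 ∧ GeomAutSurj h) :
    AlgSt.RepByAlgSpWith AlgSp.IsFiniteMor (FibCat.inertiaToBase (FibCat.toSelf 𝒳)) := by
  have gX := h𝒳.isStack.1
  have gI := FC16.inertia_isFibGrpd gX (presCart_of_isFibGrpd selfOver_isFibGrpd (FibCat.toSelf 𝒳))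
  have h1 : AlgSt.RepByAlgSpWith AlgSp.IsProperMor (FibCat.inertiaToBase (FibCat.toSelf 𝒳)) := fun U y => by
    have key : ∀ p : ↥U.left, ∃ (W : Over S) (k : W ⟶ U), p ∈ Set.range k.left ∧ Smooth k.left ∧
        RepOf AlgSp.IsProperMor (FibCat.fpFst (BasedFunctor.comp (AlgSt.overMap k) y)
          (FibCat.inertiaToBase (FibCat.toSelf 𝒳))) := by
      intro p
      obtain ⟨𝒰, h, h𝒰, ⟨v, hv⟩, het, hsep, hs⟩ := hloc (Points.ofChart y p)
      have gU := h𝒰.isStack.1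
      have gP := fp_isFibGrpd (overCat_isFibGrpd U) gU gX y h
      obtain ⟨W, k, c, ⟨j⟩, hsm, hsu⟩ := exists_good h𝒰 h𝒳 h y
      obtain ⟨z, hz, -⟩ := exists_fp_point gU gX (overCat_isFibGrpd U) h y (Points.mk (chartPt U p)) v hv.symm
      obtain ⟨z', rfl⟩ := isSurjective_of_with gP hsu z
      refine ⟨W, k, ⟨ptOf z', ?_⟩, ?_, ?_⟩
      · rw [← StAlg16.map_comp_apply, map_eq_map_of_iso j] at hz
        rw [← ptOf_map_overMap, hz, ptOf_chartPt]
      · have hS : AlgSt.RepByAlgSpWith (AlgSp.LocP @Smooth) h := repByAlgSpWith_mono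
          (fun _ hF T a (ha : AlgSp.IsEtaleMor a) => AlgSpace.locP_mono
            (fun A B g (hg : Etale g) => inferInstanceAs (Smooth g))
            ((AlgSpDescent.isEtaleMor_iff_locP hF (AlgSp.IsAlgSpace.yon_obj T) a).1 ha)) het
        exact of_with_locP_overMap k (with_of_iso j (with_comp goodP_locP (overCat_isFibGrpd W) gP hsm
          (with_fpFst y hS)))
      · exact repOf_left (y := BasedFunctor.comp (BasedFunctor.comp c (FibCat.fpSnd y h)) h)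
          (wrIso j.symm y ≪≫ wlIso c (FibCat.fpIso y h))
          (repOf_proper_of_factor gU gX het hs hsep _)
    choose W k hp hk hr using key
    refine repOf_of_cover pbP_isProperMor (isLocalOnBase_fppf_of_fpqc isLocalOnBase_fpqc_isProperMor)
      gI gX (repByAlgSp1_of_with (with_inertiaToBase gX selfOver_isFibGrpd hΔ)) y W k
      ⟨fun i => ?_, fun x => ?_⟩ hr
    · haveI := hk i
      exact ⟨(locP_yon_iff (k i)).2 inferInstance, (locP_yon_iff (k i)).2 inferInstance⟩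
    · obtain ⟨t, rfl⟩ := (AlgSp.Points.schemeHomeo U).surjective x
      obtain ⟨s, hs⟩ := hp t
      refine ⟨t, AlgSp.Points.schemeHomeo (W t) s, ?_⟩
      rw [AlgSp.Points.map_yon_map_apply, hs]
  exact repByAlgSpWith_mono
    (fun _ hF U _ ha => FiniteMor15.isFiniteMor_of_proper_lqf hF (AlgSp.IsAlgSpace.yon_obj U) ha.1 ha.2)
    (StAlg16.with_inf goodP_isProperMor.preIso (preIso_of_pullback pbP_locP) gI gX h1
      ((QDM14.lqf_inertia_iff h𝒳 isAlgStack_selfOver (FibCat.toSelf 𝒳)).2 hqf))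

end Groth.Agent.InertiaLoc16
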