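import Groth.Agent.Lib.StAlg16.Inertia
import Groth.Agent.Lib.StAlg16.Squares
import Groth.Agent.Lib.StAlg16.PointsSp
import Groth.Agent.Lib.AlgSpace.DiagChart
import Groth.Agent.Lib.StAlg.Props
import Groth.Prelude.Def_StGerb2
import Mathlib.FieldTheory.IsAlgClosed.AlgebraicClosure

/-!
# Automorphisms lift along etale morphisms which are surjective on geometric automorphism groups
-/

universe u

open CategoryTheory CategoryTheory.Functor CategoryTheory.Limits AlgebraicGeometry Opposite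

set_option linter.style.haveILetI false
set_option linter.unusedSectionVars false
set_option backward.isDefEq.respectTransparency false
set_option backward.isDefEq.respectTransparency.types false

namespace Groth.Agent.InertiaLoc16

open Groth.Agent.FC16 hiding overMap
open Groth.Agent.StAlg Groth.Agent.StAlg16 AlgSt

variable {S : Scheme.{u}}

/-- Sections of an etale morphism which agree at a geometric point over every point agree. -/
theorem sections_eq {F : AlgSp.Sp S} (hF : AlgSp.IsAlgSpace F) {T : Over S} (a : F ⟶ (AlgSp.yon S).obj T)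
    (ha : AlgSp.IsEtaleMor a) (σ₁ σ₂ : (AlgSp.yon S).obj T ⟶ F) (h₁ : σ₁ ≫ a = 𝟙 _) (h₂ : σ₂ ≫ a = 𝟙 _)
    (hg : ∀ t : ↥T.left, ∃ (V : Over S) (ι : V ⟶ T), t ∈ Set.range ι.left ∧
      (AlgSp.yon S).map ι ≫ σ₁ = (AlgSp.yon S).map ι ≫ σ₂) : σ₁ = σ₂ := by
  have hT := AlgSp.IsAlgSpace.yon_obj T
  have hd := AlgSpace.repWith_diagonal_isOpenImmersion_of_unramified hF hT
    (f := a) (AlgSpace.locP_mono (fun A B g (hg : Etale g) => ⟨inferInstance, inferInstance⟩)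
      ((AlgSpDescent.isEtaleMor_iff_locP hF hT a).1 ha))
  let q : (AlgSp.yon S).obj T ⟶ pullback a a := pullback.lift σ₁ σ₂ (h₁.trans h₂.symm)
  have sq := hd.1.isPullback q
  haveI : IsOpenImmersion (hd.1.snd q).left := hd.2 q _ _ sq
  haveI : Surjective (hd.1.snd q).left := ⟨fun t => by
    obtain ⟨V, ι, ⟨v, rfl⟩, hι⟩ := hg t
    obtain ⟨k, hk⟩ := (AlgSp.yon S).map_surjective (sq.lift ((AlgSp.yon S).map ι ≫ σ₁) ((AlgSp.yon S).map ι) (by
      apply pullback.hom_ext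
      · simp [q, pullback.lift_fst]
      · simpa [q, pullback.lift_snd] using hι))
    have hk' : k ≫ hd.1.snd q = ι := (AlgSp.yon S).map_injective (by rw [Functor.map_comp, hk, sq.lift_snd])
    exact ⟨k.left v, by rw [← hk', Over.comp_left]; rfl⟩⟩
  haveI : IsIso (hd.1.snd q).left := (isIso_iff_isOpenImmersion_and_epi_base _).2 ⟨inferInstance,
    (TopCat.epi_iff_surjective _).2 (hd.1.snd q).left.surjective⟩
  haveI : IsIso (hd.1.snd q) := by
    haveI : IsIso ((Over.forget S).map (hd.1.snd q)) := ‹_›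
    exact isIso_of_reflects_iso _ (Over.forget S)
  have e1 := sq.w =≫ pullback.fst a a
  have e2 := sq.w =≫ pullback.snd a a
  simp only [q, Category.assoc, pullback.diagonal_fst, pullback.diagonal_snd, pullback.lift_fst, pullback.lift_snd,
    Category.comp_id] at e1 e2
  exact (cancel_epi ((AlgSp.yon S).map (hd.1.snd q))).1 (e1.symm.trans e2)

variable {𝒰 𝒳 : AlgSt.Cat S}

/-- surjectivity on automorphism groups of geometric points -/
def GeomAutSurj (h : 𝒰 ⥤ᵇ 𝒳) : Prop :=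
  ∀ (Ω : Type u) [Field Ω] [IsAlgClosed Ω] (t : Spec (CommRingCat.of Ω) ⟶ S) (u : 𝒰.p.Fiber (Over.mk t)),
    Function.Surjective (Gerb.autMap h u.1)

/-- Automorphisms of images of objects over schemes lift. -/
theorem exists_aut_lift_functor (gU : FibCat.IsFibGrpd 𝒰.p) (gX : FibCat.IsFibGrpd 𝒳.p) {h : 𝒰 ⥤ᵇ 𝒳}
    (het : AlgSt.RepByAlgSpWith AlgSp.IsEtaleMor h) (hs : GeomAutSurj h) {T : Over S}
    (y : FibCat.overCat T ⥤ᵇ 𝒰) (β : h.obj (y.obj (Over.mk (𝟙 T))) ≅ h.obj (y.obj (Over.mk (𝟙 T))))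
    (hβ : 𝒳.p.IsHomLift (𝟙 T) β.hom) :
    ∃ α : y.obj (Over.mk (𝟙 T)) ≅ y.obj (Over.mk (𝟙 T)), 𝒰.p.IsHomLift (𝟙 T) α.hom ∧ h.map α.hom = β.hom := by
  haveI := hβ
  let b := BasedFunctor.comp y h
  obtain ⟨B, hB⟩ := exists_iso (presCart_of_isFibGrpd gX b) (presCart_of_isFibGrpd gX b) β hβ
  obtain ⟨F, e, he, hP⟩ := het T b
  obtain ⟨e', he', ⟨η₁⟩, ⟨η₂⟩⟩ := exists_inverse he
  let i₀ : BasedFunctor.comp (BasedFunctor.id (FibCat.overCat T)) b ≅ BasedFunctor.comp y h := Iso.refl _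
  let s₁ : FibCat.overCat T ⥤ᵇ FibCat.fp b h := FibCat.fpLift (BasedFunctor.id _) y i₀
  let s₂ : FibCat.overCat T ⥤ᵇ FibCat.fp b h := FibCat.fpLift (BasedFunctor.id _) y B
  let σ : (FibCat.overCat T ⥤ᵇ FibCat.fp b h) → ((AlgSp.yon S).obj T ⟶ F.obj) := fun s =>
    ObjectProperty.homMk (mapOf (P := ((AlgSp.yon S).obj T).obj) (Q := F.obj.obj)
      (BasedFunctor.comp (BasedFunctor.comp (AlgSt.toOverCat T) s) e'))
  let a := AlgSt.spMapOfOver (BasedFunctor.comp e (FibCat.fpFst b h))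
  have hsec : ∀ s, Nonempty (BasedFunctor.comp s (FibCat.fpFst b h) ≅ BasedFunctor.id _) → σ s ≫ a = 𝟙 _ := by
    rintro s ⟨is⟩
    apply ObjectProperty.hom_ext
    show mapOf (P := ((AlgSp.yon S).obj T).obj) (Q := F.obj.obj)
      (BasedFunctor.comp (BasedFunctor.comp (AlgSt.toOverCat T) s) e') ≫ a.hom = 𝟙 _
    rw [spMapOfOver_hom, ← mapOf_comp, ← mapOf_id]
    exact mapOf_congr (wlIso (BasedFunctor.comp (AlgSt.toOverCat T) s)
        (wrIso η₂ (BasedFunctor.comp (FibCat.fpFst b h) (AlgSt.ofOverCat T))) ≪≫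
      wlIso (AlgSt.toOverCat T) (wrIso is (AlgSt.ofOverCat T)) ≪≫ eqToIso (toOver_ofOver T))
  have hσ : σ s₁ = σ s₂ := by
    refine sections_eq F.property a hP _ _ (hsec s₁ ⟨Iso.refl _⟩) (hsec s₂ ⟨Iso.refl _⟩) fun t => ?_
    let Ω := AlgebraicClosure (T.left.residueField t)
    let gΩ : Spec (CommRingCat.of Ω) ⟶ T.left :=
      Spec.map (CommRingCat.ofHom (algebraMap (T.left.residueField t) Ω)) ≫ T.left.fromSpecResidueField t
    let V : Over S := Over.mk (gΩ ≫ T.hom)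
    let ι : V ⟶ T := Over.homMk gΩ rfl
    refine ⟨V, ι, ⟨IsLocalRing.closedPoint Ω, ?_⟩, ?_⟩
    · exact Scheme.fromSpecResidueField_apply t _
    · let a₀ : (FibCat.overCat T).obj := (AlgSt.overMap ι).obj (Over.mk (𝟙 V))
      let uo : 𝒰.p.Fiber (Over.mk (gΩ ≫ T.hom)) := ⟨y.obj a₀, y.w_obj a₀⟩
      let β' := appIso B a₀
      have hU : 𝒳.p.obj (h.obj uo.1) = V := (b.w_obj a₀).trans rfl
      haveI hβ' : 𝒳.p.IsHomLift (𝟙 (𝒳.p.obj (h.obj uo.1))) β'.hom := by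
        haveI := isHomLift_appIso_hom B a₀ (U := V) rfl
        rw [hU]; exact this
      haveI hβi : 𝒳.p.IsHomLift (𝟙 (𝒳.p.obj (h.obj uo.1))) β'.inv := IsHomLift.lift_id_inv 𝒳.p _ β'
      let βA : Gerb.AutO (h.obj uo.1) :=
        { hom := ⟨β'.hom, hβ'⟩, inv := ⟨β'.inv, hβi⟩
          hom_inv_id := Functor.Fiber.hom_ext β'.hom_inv_id
          inv_hom_id := Functor.Fiber.hom_ext β'.inv_hom_id }
      obtain ⟨α, hα⟩ := hs Ω (gΩ ≫ T.hom) uo βA
      have hα' : h.map α.hom.1 = β'.hom := congrArg (fun γ : Gerb.AutO (h.obj uo.1) => γ.hom.1) hα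
      let αi : y.obj a₀ ≅ y.obj a₀ :=
        ⟨α.hom.1, α.inv.1, congrArg Subtype.val α.hom_inv_id, congrArg Subtype.val α.inv_hom_id⟩
      let E : s₁.obj a₀ ≅ s₂.obj a₀ := fpIsoMk (Iso.refl a₀) αi (by
        show b.map (𝟙 a₀) ≫ β'.hom = 𝟙 _ ≫ h.map α.hom.1
        rw [CategoryTheory.Functor.map_id, hα']; rfl)
      have gP := fp_isFibGrpd (overCat_isFibGrpd T) gU gX b h
      obtain ⟨C, -⟩ := exists_iso (presCart_of_isFibGrpd gP (BasedFunctor.comp (AlgSt.overMap ι) s₁))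
        (presCart_of_isFibGrpd gP (BasedFunctor.comp (AlgSt.overMap ι) s₂)) E
        (@isHomLift_of_fst _ _ _ _ _ _ _ _ _ _ _ _ _ (IsHomLift.id rfl))
      apply ObjectProperty.hom_ext
      show ((AlgSp.yon S).map ι).hom ≫ mapOf (P := ((AlgSp.yon S).obj T).obj) (Q := F.obj.obj) _ =
        ((AlgSp.yon S).map ι).hom ≫ mapOf (P := ((AlgSp.yon S).obj T).obj) (Q := F.obj.obj) _
      rw [← mapOf_ofPshMap ((AlgSp.yon S).map ι).hom, ← mapOf_comp, ← mapOf_comp]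
      exact mapOf_congr (wrIso (wrIso (overMapIso ι) s₁ ≪≫ wlIso (AlgSt.toOverCat V) C ≪≫
        (wrIso (overMapIso ι) s₂).symm) e')
  have I1 : BasedFunctor.comp (BasedFunctor.comp (AlgSt.toOverCat T) s₁) e' ≅
      BasedFunctor.comp (BasedFunctor.comp (AlgSt.toOverCat T) s₂) e' :=
    isoMapOf (P := ((AlgSp.yon S).obj T).obj) (Q := F.obj.obj) _ ≪≫
      eqToIso (congrArg Stk.ofPshMap (congrArg (fun s => s.hom) hσ)) ≪≫
      (isoMapOf (P := ((AlgSp.yon S).obj T).obj) (Q := F.obj.obj) _).symm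
  let γ : s₁ ≅ s₂ := wrIso (eqToIso (ofOver_toOver T)).symm s₁ ≪≫
    wlIso (AlgSt.ofOverCat T) ((wlIso (BasedFunctor.comp (AlgSt.toOverCat T) s₁) η₂).symm ≪≫ wrIso I1 e ≪≫
      wlIso (BasedFunctor.comp (AlgSt.toOverCat T) s₂) η₂) ≪≫ wrIso (eqToIso (ofOver_toOver T)) s₂
  let g := appIso γ (Over.mk (𝟙 T))
  haveI hg : (FibCat.fp b h).p.IsHomLift (𝟙 T) g.hom := isHomLift_appIso_hom γ (Over.mk (𝟙 T)) rfl
  let g₂ := (FibCat.fpSnd b h).toFunctor.mapIso g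
  haveI : (FibCat.overCat T).p.IsHomLift (𝟙 T) ((FibCat.fpFst b h).map g.hom) :=
    BasedFunctor.preserves_isHomLift (FibCat.fpFst b h) _ _
  refine ⟨g₂, BasedFunctor.preserves_isHomLift (FibCat.fpSnd b h) _ g.hom, ?_⟩
  have hf : (FibCat.fpFst b h).map g.hom = 𝟙 _ := Over.OverMorphism.ext
    ((IsHomLift.fac' (FibCat.overCat T).p (𝟙 T) ((FibCat.fpFst b h).map g.hom)).trans (by simp; rfl))
  have w : b.map ((FibCat.fpFst b h).map g.hom) ≫ (appIso B (Over.mk (𝟙 T))).hom =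
      𝟙 _ ≫ h.map g₂.hom := fp_w g.hom
  rw [hf, CategoryTheory.Functor.map_id, Category.id_comp, Category.id_comp] at w
  exact w.symm.trans hB

/-- Automorphisms of images lift. -/
theorem exists_aut_lift (gU : FibCat.IsFibGrpd 𝒰.p) (gX : FibCat.IsFibGrpd 𝒳.p) {h : 𝒰 ⥤ᵇ 𝒳}
    (het : AlgSt.RepByAlgSpWith AlgSp.IsEtaleMor h) (hs : GeomAutSurj h) {T : Over S} {o : 𝒰.obj}
    (ho : 𝒰.p.obj o = T) (β : h.obj o ≅ h.obj o) (hβ : 𝒳.p.IsHomLift (𝟙 T) β.hom) :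
    ∃ α : o ≅ o, 𝒰.p.IsHomLift (𝟙 T) α.hom ∧ h.map α.hom = β.hom := by
  haveI := hβ
  haveI := FC16.isFibered gU
  let c := ofObjIso (U := T) ho
  haveI : 𝒰.p.IsHomLift (𝟙 T) c.hom := ofObjIso_lift ho
  haveI : 𝒰.p.IsHomLift (𝟙 T) c.inv := IsHomLift.lift_id_inv 𝒰.p T c
  haveI : 𝒳.p.IsHomLift (𝟙 T) (h.map c.hom) := BasedFunctor.preserves_isHomLift h _ _
  haveI : 𝒳.p.IsHomLift (𝟙 T) (h.map c.inv) := BasedFunctor.preserves_isHomLift h _ _
  obtain ⟨α, hα, hm⟩ := exists_aut_lift_functor gU gX het hs (ofObj (U := T) ho)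
    (h.toFunctor.mapIso c ≪≫ β ≪≫ (h.toFunctor.mapIso c).symm)
    (by
      show 𝒳.p.IsHomLift (𝟙 T) (h.map c.hom ≫ β.hom ≫ h.map c.inv)
      infer_instance)
  haveI := hα
  refine ⟨c.symm ≪≫ α ≪≫ c, ?_, ?_⟩
  · show 𝒰.p.IsHomLift (𝟙 T) (c.inv ≫ α.hom ≫ c.hom)
    infer_instance
  · show h.map (c.inv ≫ α.hom ≫ c.hom) = β.hom
    rw [Functor.map_comp, Functor.map_comp, hm]
    show h.map c.inv ≫ (h.map c.hom ≫ β.hom ≫ h.map c.inv) ≫ h.map c.hom = β.hom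
    simp [← Functor.map_comp, ← Functor.map_comp_assoc]

end Groth.Agent.InertiaLoc16
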